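import Groth.Agent.DeltaFLib.Universal
import Mathlib.CategoryTheory.Abelian.Refinements
import Mathlib.CategoryTheory.Abelian.FunctorCategory
import Mathlib.CategoryTheory.Functor.EpiMono

/-!
Comparison of an effaceable delta-functor with another one, degree by degree.
-/

set_option autoImplicit false

universe v u v' u'

open CategoryTheory CategoryTheory.Limits

namespace Groth.Agent.DeltaFLib

variable {A : Type u} [Category.{v} A] [Abelian A] {B : Type u'} [Category.{v'} B] [Abelian B]
  {T T' : DeltaF.CohDeltaFunctor A B ℕ} (hT : T.IsEffaceable) (φ : T ⟶ T') (i : ℕ)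

include hT in
theorem mono_succ [IsIso (φ.app i)] : Mono (φ.app (i + 1)) := by
  haveI : ∀ X, Mono ((φ.app (i + 1)).app X) := fun X => by
    obtain ⟨Y, u, hu, hu0⟩ := hT i X
    haveI := hu
    haveI := epi_δ T i (ses u) (ses_shortExact u) hu0
    refine Preadditive.mono_of_cancel_zero _ fun {Z} a ha => ?_
    obtain ⟨Z₁, π, hπ, b, hb⟩ := surjective_up_to_refinements_of_epi (T.δ (ses u) (ses_shortExact u) i (i + 1) rfl) a
    have h1 : (b ≫ (φ.app i).app (ses u).X₃) ≫ T'.δ (ses u) (ses_shortExact u) i (i + 1) rfl = 0 := by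
      rw [Category.assoc, ← φ.comm, ← Category.assoc, ← hb, Category.assoc, ha, comp_zero]
    obtain ⟨Z₂, π', hπ', c, hc⟩ := (T'.exact₃ (ses u) (ses_shortExact u) i (i + 1) rfl).exact_up_to_refinements _ h1
    replace hc : π' ≫ b ≫ (φ.app i).app (ses u).X₃ = c ≫ (T'.F i).map (ses u).g := hc
    have h2 : π' ≫ b = (c ≫ inv ((φ.app i).app (ses u).X₂)) ≫ (T.F i).map (ses u).g := by
      rw [← cancel_mono ((φ.app i).app (ses u).X₃), Category.assoc, Category.assoc, Category.assoc,
        (φ.app i).naturality, IsIso.inv_hom_id_assoc, hc]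
    haveI := hπ
    haveI := hπ'
    rw [← cancel_epi π, ← cancel_epi π', hb, ← Category.assoc, h2, Category.assoc, T.comp_δ, comp_zero,
      comp_zero, comp_zero]
  exact NatTrans.mono_of_mono_app _

include hT in
theorem epi_succ [IsIso (φ.app i)] (h' : ∀ X : A, ∃ (Y : A) (u : X ⟶ Y), Mono u ∧ (T'.F (i + 1)).map u = 0) :
    Epi (φ.app (i + 1)) := by
  haveI : ∀ X, Epi ((φ.app (i + 1)).app X) := fun X => by
    obtain ⟨Y, u, hu, hu0⟩ := hT i X
    obtain ⟨Y', u', hu', hu0'⟩ := h' X
    haveI := hu
    haveI := hu'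
    let w : X ⟶ pushout u u' := u ≫ pushout.inl u u'
    haveI : Mono w := inferInstance
    have hw : (T.F (i + 1)).map w = 0 := by rw [Functor.map_comp, hu0, zero_comp]
    have hw' : (T'.F (i + 1)).map w = 0 := by
      rw [show w = u' ≫ pushout.inr u u' from pushout.condition, Functor.map_comp, hu0', zero_comp]
    haveI := epi_δ T' i (ses w) (ses_shortExact w) hw'
    exact epi_of_epi_fac (φ.comm (ses w) (ses_shortExact w) i (i + 1) rfl)
  exact NatTrans.epi_of_epi_app _

end Groth.Agent.DeltaFLib
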