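import Groth.Prelude.Def_DeltaF
import Mathlib.CategoryTheory.Abelian.Exact
import Mathlib.CategoryTheory.Adhesive.Basic

/-!
An effaceable delta-functor is universal.
-/

set_option autoImplicit false

universe v u v' u'

open CategoryTheory CategoryTheory.Limits

namespace Groth.Agent.DeltaFLib

variable {A : Type u} [Category.{v} A] [Abelian A] {B : Type u'} [Category.{v'} B] [Abelian B]
  (T T' : DeltaF.CohDeltaFunctor A B ℕ) (n : ℕ)

/-- the short complex of a morphism and its cokernel -/
noncomputable abbrev ses {X Y : A} (u : X ⟶ Y) : ShortComplex A :=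
  ShortComplex.mk u (cokernel.π u) (cokernel.condition u)

theorem ses_shortExact {X Y : A} (u : X ⟶ Y) [Mono u] : (ses u).ShortExact :=
  { exact := ShortComplex.exact_of_g_is_cokernel _ (cokernelIsCokernel u) }

/-- a morphism of short complexes from a commutative square -/
noncomputable def sesMap {X Y X' Y' : A} (u : X ⟶ Y) (u' : X' ⟶ Y') (a : X ⟶ X') (b : Y ⟶ Y')
    (h : u ≫ b = a ≫ u') : ses u ⟶ ses u' where
  τ₁ := a
  τ₂ := b
  τ₃ := cokernel.map u u' a b h
  comm₁₂ := h.symm
  comm₂₃ := (cokernel.π_desc _ _ _).symm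

theorem epi_δ (S : ShortComplex A) (hS : S.ShortExact) (h : (T.F (n + 1)).map S.f = 0) :
    Epi (T.δ S hS n (n + 1) rfl) :=
  (T.exact₁ S hS n (n + 1) rfl).epi_f h

/-- `c` is the value of the extension of `t` given by the short exact sequence `S` -/
def IsValue (t : T.F n ⟶ T'.F n) (S : ShortComplex A) (hS : S.ShortExact)
    (c : (T.F (n + 1)).obj S.X₁ ⟶ (T'.F (n + 1)).obj S.X₁) : Prop :=
  T.δ S hS n (n + 1) rfl ≫ c = t.app S.X₃ ≫ T'.δ S hS n (n + 1) rfl

theorem exists_isValue (t : T.F n ⟶ T'.F n) (S : ShortComplex A) (hS : S.ShortExact)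
    (h : (T.F (n + 1)).map S.f = 0) : ∃ c, IsValue T T' n t S hS c := by
  haveI := epi_δ T n S hS h
  have hex := T.exact₃ S hS n (n + 1) rfl
  refine ⟨hex.desc (t.app S.X₃ ≫ T'.δ S hS n (n + 1) rfl) ?_, hex.g_desc _ _⟩
  show (T.F n).map S.g ≫ _ = 0
  rw [← Category.assoc, t.naturality, Category.assoc, T'.comp_δ, comp_zero]

theorem value_natural (t : T.F n ⟶ T'.F n) {S S' : ShortComplex A} (hS : S.ShortExact) (hS' : S'.ShortExact)
    (φ : S ⟶ S') (h : Epi (T.δ S hS n (n + 1) rfl)) (c : (T.F (n + 1)).obj S.X₁ ⟶ (T'.F (n + 1)).obj S.X₁)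
    (c' : (T.F (n + 1)).obj S'.X₁ ⟶ (T'.F (n + 1)).obj S'.X₁) (hc : IsValue T T' n t S hS c)
    (hc' : IsValue T T' n t S' hS' c') :
    (T.F (n + 1)).map φ.τ₁ ≫ c' = c ≫ (T'.F (n + 1)).map φ.τ₁ := by
  rw [← cancel_epi (T.δ S hS n (n + 1) rfl), ← Category.assoc, ← T.δ_natural hS hS' φ n (n + 1) rfl,
    Category.assoc, hc', ← Category.assoc, t.naturality, Category.assoc, T'.δ_natural hS hS' φ n (n + 1) rfl,
    ← Category.assoc, ← hc, Category.assoc]

variable (hT : T.IsEffaceable)

/-- the chosen effacing monomorphism -/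
noncomputable def effObj (X : A) : A := (hT n X).choose

noncomputable def eff (X : A) : X ⟶ effObj T n hT X := (hT n X).choose_spec.choose

instance mono_eff (X : A) : Mono (eff T n hT X) := (hT n X).choose_spec.choose_spec.1

theorem map_eff (X : A) : (T.F (n + 1)).map (eff T n hT X) = 0 := (hT n X).choose_spec.choose_spec.2

noncomputable def val (t : T.F n ⟶ T'.F n) (X : A) : (T.F (n + 1)).obj X ⟶ (T'.F (n + 1)).obj X :=
  (exists_isValue T T' n t (ses (eff T n hT X)) (ses_shortExact _) (map_eff T n hT X)).choose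

theorem isValue_val (t : T.F n ⟶ T'.F n) (X : A) :
    IsValue T T' n t (ses (eff T n hT X)) (ses_shortExact _) (val T T' n hT t X) :=
  (exists_isValue T T' n t (ses (eff T n hT X)) (ses_shortExact _) (map_eff T n hT X)).choose_spec

/-- the extension of `t` to the next degree -/
noncomputable def next (t : T.F n ⟶ T'.F n) : T.F (n + 1) ⟶ T'.F (n + 1) where
  app := val T T' n hT t
  naturality X X' f := by
    let u := eff T n hT X
    let u' := eff T n hT X'
    let v : X' ⟶ pushout u (f ≫ u') := u' ≫ pushout.inr u (f ≫ u')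
    haveI : Mono v := inferInstance
    have hv : (T.F (n + 1)).map v = 0 := by rw [Functor.map_comp, map_eff, zero_comp]
    have hu : u ≫ pushout.inl u (f ≫ u') = f ≫ v := by
      rw [pushout.condition, Category.assoc]
    obtain ⟨c, hc⟩ := exists_isValue T T' n t (ses v) (ses_shortExact v) hv
    have e1 := value_natural T T' n t (ses_shortExact u) (ses_shortExact v) (sesMap u v f _ hu)
      (epi_δ T n _ _ (map_eff T n hT X)) _ _ (isValue_val T T' n hT t X) hc
    have e2 := value_natural T T' n t (ses_shortExact u') (ses_shortExact v)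
      (sesMap u' v (𝟙 X') (pushout.inr u (f ≫ u')) (Category.id_comp _).symm)
      (epi_δ T n _ _ (map_eff T n hT X')) _ _ (isValue_val T T' n hT t X') hc
    have e2' : c = val T T' n hT t X' := by
      simpa [sesMap] using e2
    rw [e2'] at e1
    exact e1

theorem next_comm (t : T.F n ⟶ T'.F n) (S : ShortComplex A) (hS : S.ShortExact) :
    T.δ S hS n (n + 1) rfl ≫ (next T T' n hT t).app S.X₁ = t.app S.X₃ ≫ T'.δ S hS n (n + 1) rfl := by
  let u := eff T n hT S.X₁
  haveI := hS.mono_f
  let w : S.X₁ ⟶ pushout u S.f := u ≫ pushout.inl u S.f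
  haveI : Mono w := inferInstance
  have hw : (T.F (n + 1)).map w = 0 := by rw [Functor.map_comp, map_eff, zero_comp]
  obtain ⟨c, hc⟩ := exists_isValue T T' n t (ses w) (ses_shortExact w) hw
  have e : c = val T T' n hT t S.X₁ := by
    have := value_natural T T' n t (ses_shortExact u) (ses_shortExact w)
      (sesMap u w (𝟙 S.X₁) (pushout.inl u S.f) (Category.id_comp _).symm)
      (epi_δ T n _ _ (map_eff T n hT S.X₁)) _ _ (isValue_val T T' n hT t S.X₁) hc
    simpa [sesMap] using this
  have h12 : S.f ≫ pushout.inr u S.f = w := pushout.condition.symm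
  haveI := hS.epi_g
  let φ : S ⟶ ses w :=
    { τ₁ := 𝟙 _
      τ₂ := pushout.inr u S.f
      τ₃ := hS.exact.desc (pushout.inr u S.f ≫ cokernel.π w)
        (by rw [← Category.assoc, h12, cokernel.condition])
      comm₁₂ := by rw [Category.id_comp]; exact h12.symm
      comm₂₃ := (hS.exact.g_desc _ _).symm }
  have h1 : T.δ S hS n (n + 1) rfl = (T.F n).map φ.τ₃ ≫ T.δ (ses w) (ses_shortExact w) n (n + 1) rfl :=
    ((T.δ_natural hS (ses_shortExact w) φ n (n + 1) rfl).trans
      ((congrArg (_ ≫ ·) ((T.F (n + 1)).map_id S.X₁)).trans (Category.comp_id _))).symm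
  have h2 : T'.δ S hS n (n + 1) rfl = (T'.F n).map φ.τ₃ ≫ T'.δ (ses w) (ses_shortExact w) n (n + 1) rfl :=
    ((T'.δ_natural hS (ses_shortExact w) φ n (n + 1) rfl).trans
      ((congrArg (_ ≫ ·) ((T'.F (n + 1)).map_id S.X₁)).trans (Category.comp_id _))).symm
  show T.δ S hS n (n + 1) rfl ≫ val T T' n hT t S.X₁ = _
  rw [← e, h1, h2]
  refine (Category.assoc _ _ _).trans ((congrArg (_ ≫ ·) hc).trans ?_)
  rw [← Category.assoc, t.naturality, Category.assoc]

noncomputable def extApp (t : T.F 0 ⟶ T'.F 0) : ∀ n, T.F n ⟶ T'.F n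
  | 0 => t
  | n + 1 => next T T' n hT (extApp t n)

include hT in
theorem isUniversal_of_isEffaceable : T.IsUniversal := by
  intro T' t
  refine ⟨{ app := extApp T T' hT t, comm := ?_ }, rfl, ?_⟩
  · intro S hS n₀ n₁ h
    change n₀ + 1 = n₁ at h
    subst h
    exact next_comm T T' n₀ hT _ S hS
  · intro τ hτ
    ext1 n
    induction n with
    | zero => exact hτ
    | succ n ih =>
      ext X
      haveI := epi_δ T n (ses (eff T n hT X)) (ses_shortExact _) (map_eff T n hT X)
      rw [← cancel_epi (T.δ (ses (eff T n hT X)) (ses_shortExact _) n (n + 1) rfl)]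
      refine (τ.comm _ _ n (n + 1) rfl).trans ?_
      rw [ih]
      exact (next_comm T T' n hT _ _ (ses_shortExact _)).symm

end Groth.Agent.DeltaFLib
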